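import Groth.Agent.Lib.Goodman10.Curves
import Groth.Agent.Lib.NumPoly18.StrictNef
import Groth.Agent.Lib.IrrDiv13.Section
import Groth.Agent.Lib.AffCompl.Compl
import Groth.Agent.Lib.AffCompl.Ample
import Groth.Agent.Lib.VarDim.Fibre
import Groth.Agent.Lib.Ample18.Avoid
import Groth.Agent.S1687

/-!
# An ample divisor supported on the complement of an affine open of a regular proper surface
-/

set_option autoImplicit false
set_option linter.style.haveILetI false
set_option linter.unusedSectionVars false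
set_option maxHeartbeats 1000000
set_option backward.isDefEq.respectTransparency false
set_option backward.isDefEq.respectTransparency.types false

universe u

open CategoryTheory CategoryTheory.Limits AlgebraicGeometry TopologicalSpace Opposite

noncomputable section

namespace Groth.Agent.Goodman10

open Groth.Agent.NumPoly18 Groth.Agent.Snapper
open Groth.Agent.SymSq10 (sdot)

noncomputable local instance instLawGoodMain (Y : Scheme.{u}) : PicGrp.Law Y := M2.law Y

section Free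

variable {X : Scheme.{u}} {L : X.Modules}

/-- The non-vanishing locus of a lifted section. -/
theorem genLocus_lift (hL : PicF.IsInvertible L) {I : X.IdealSheafData} (hI : BlowUp.IsEffCartierIdeal I)
    (φ : Coh.structureModule X ⟶ L) (t : Γ(CohB1.tensorMod (ClSub.idealMod I) L, ⊤))
    (ht : (CurveCoh17.twistIncl I L).app ⊤ t = Amp.gval φ) (x : X) :
    x ∈ CohB1.genLocus L φ ↔
      x ∈ CohB1.genLocus (CohB1.tensorMod (ClSub.idealMod I) L) (M1.secHom t) ∧ x ∉ (I.support : Set X) := by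
  have hIi := M2.isInvertible_idealMod I hI
  have hM := M2.isInvertible_tensor hIi hL
  obtain ⟨U, hxU, a, ha, hIU⟩ := hI x
  obtain ⟨V, em, hxV, hVU, hV, hem⟩ := Amp.exists_isGenerator hL (V := U.1) (x := x) hxU
  obtain ⟨b, hb⟩ : a ∈ Set.range (M2.idealIncl I (U := U.1)) := by
    rw [M2.range_idealIncl, hIU]; exact Ideal.mem_span_singleton_self a
  let a' : Γ(X, V) := M1.ores hVU a
  let b' : Γ(ClSub.idealMod I, V) := M1.mres _ hVU b
  have hb' : M2.idealIncl I b' = a' := by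
    refine (M2.idealIncl_res I hVU b).trans ?_
    rw [hb]
  have hgen : M2.IsGenerator (M2.tsec (ClSub.idealMod I) L b' em) := CurveOm17.isGen_tsec (A := ClSub.idealMod I) (B := L)
    (Twist.IsGen.mres (show Twist.IsGen _ U.1 b from M2.isGenerator_idealMod I a ha hIU b hb) hVU) hem
  obtain ⟨r, hr⟩ := CurveOm17.exists_eq_smul_of_isGen hgen (M1.mres _ (le_top : V ≤ ⊤) t)
  have hval : M1.mres L (le_top : V ≤ ⊤) (Amp.gval φ) = (r * a') • em := by
    rw [← ht]
    refine (M1.map_app_eq (CurveCoh17.twistIncl I L) (le_top : V ≤ ⊤) t).symm.trans ?_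
    rw [hr, Scheme.Modules.Hom.app_smul]
    show r • (M2.tensorLUnit L).hom.app V ((M2.tensorMap (ClSub.idealModι I) (𝟙 L)).app V (M2.tsec _ L b' em)) = _
    rw [M2.tensorMap_tsec, CurveCoh17.tensorLUnit_tsec, mul_smul]
    exact congrArg (fun z : Γ(X, V) => r • z • em) hb'
  have h1 := Amp.genLocus_inf_eq_basicOpen hL φ hem hval.symm
  have h2 := Amp.genLocus_inf_eq_basicOpen hM (M1.secHom t) hgen
    (a := r) (hr.symm.trans (by rw [Amp.gval_secHom]))
  have e1 : x ∈ CohB1.genLocus L φ ↔ x ∈ X.basicOpen (r * a') := by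
    rw [← h1]; exact ⟨fun h => ⟨h, hxV⟩, fun h => h.1⟩
  have e2 : x ∈ CohB1.genLocus (CohB1.tensorMod (ClSub.idealMod I) L) (M1.secHom t) ↔ x ∈ X.basicOpen r := by
    rw [← h2]; exact ⟨fun h => ⟨h, hxV⟩, fun h => h.1⟩
  have e3 : x ∈ X.basicOpen a' ↔ x ∉ (I.support : Set X) := by
    rw [SetLike.mem_coe, Scheme.IdealSheafData.mem_support_iff_of_mem (U := U) hxU, hIU, Scheme.mem_zeroLocus_iff,
      show X.basicOpen a' = V ⊓ X.basicOpen a from Scheme.basicOpen_res X a (homOfLE hVU).op]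
    constructor
    · exact fun h h' => h' a (Ideal.mem_span_singleton_self a) h.2
    · intro h
      refine ⟨hxV, ?_⟩
      by_contra hn
      refine h fun f hf hxf => hn ?_
      obtain ⟨c, rfl⟩ := Ideal.mem_span_singleton'.1 hf
      rw [Scheme.basicOpen_mul] at hxf
      exact hxf.2
  rw [e1, e2, Scheme.basicOpen_mul, ← e3]
  rfl

/-- A class with a section whose non-vanishing locus is given. -/
def Good (c : PicLoc.PicSet X) (A : X → Prop) : Prop :=
  ∃ (L : X.Modules) (hL : PicF.IsInvertible L) (φ : Coh.structureModule X ⟶ L),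
    PicGrp.cls L hL = c ∧ ∀ x, x ∈ CohB1.genLocus L φ ↔ A x

theorem good_congr {c : PicLoc.PicSet X} {A B : X → Prop} (h : Good c A) (hAB : ∀ x, A x ↔ B x) : Good c B := by
  obtain ⟨L, hL, φ, hc, hA⟩ := h
  exact ⟨L, hL, φ, hc, fun x => (hA x).trans (hAB x)⟩

theorem good_one : Good (1 : PicLoc.PicSet X) fun _ => True := by
  refine ⟨_, PicLoc.isInvertible_structureModule X, 𝟙 _, PicGrp.cls_structureModule_eq_one .., fun x => ?_⟩
  rw [CurveAmple18.genLocus_eq_top_of_isIso]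
  exact ⟨fun _ => trivial, fun _ => trivial⟩

theorem good_mul {c d : PicLoc.PicSet X} {A B : X → Prop} (h : Good c A) (h' : Good d B) :
    Good (c * d) fun x => A x ∧ B x := by
  obtain ⟨L, hL, φ, rfl, hA⟩ := h
  obtain ⟨M, hM, ψ, rfl, hB⟩ := h'
  refine ⟨_, M2.isInvertible_tensor hL hM, SecTwist.tmulHom φ ψ, (AlgEquiv22.cls_tensor hL hM).symm, fun x => ?_⟩
  rw [Amp.genLocus_tmulHom hL hM]
  exact and_congr (hA x) (hB x)

theorem good_pow {c : PicLoc.PicSet X} {A : X → Prop} (h : Good c A) : ∀ n : ℕ, Good (c ^ n) fun x => 0 < n → A x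
  | 0 => by
    rw [pow_zero]
    exact good_congr good_one fun x => ⟨fun _ h => absurd h (lt_irrefl 0), fun _ => trivial⟩
  | n + 1 => by
    rw [pow_succ]
    exact good_congr (good_mul (good_pow h n) h) fun x => ⟨fun h' _ => h'.2, fun h' => ⟨fun _ => h' n.succ_pos, h' n.succ_pos⟩⟩

theorem good_prod {ι : Type*} [DecidableEq ι] (s : Finset ι) (c : ι → PicLoc.PicSet X) (A : ι → X → Prop)
    (h : ∀ i ∈ s, Good (c i) (A i)) : Good (∏ i ∈ s, c i) fun x => ∀ i ∈ s, A i x := by
  induction s using Finset.induction_on with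
  | empty =>
    rw [Finset.prod_empty]
    exact good_congr good_one fun x => by simp
  | insert a s ha ih =>
    rw [Finset.prod_insert ha]
    refine good_congr (good_mul (h a (Finset.mem_insert_self a s)) (ih fun i hi => h i (Finset.mem_insert_of_mem hi))) fun x => ?_
    simp

end Free

variable {k : Type u} [Field k] {X : Scheme.{u}} [X.Over (Spec (CommRingCat.of k))]
  [IsProper (X ↘ Spec (CommRingCat.of k))] [IsIntegral X]
  (hreg : ∀ x : X, IsRegularLocalRing (X.presheaf.stalk x))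
  (hd : topologicalKrullDim X = ((2 : ℕ) : WithBot ℕ∞))
include k hreg hd

/-- The class of a curve, one at other points. -/
def cl' (η : X) : PicLoc.PicSet X := by
  classical
  exact if h : topologicalKrullDim (closure ({η} : Set X)) = 1 then ncl (k := k) hreg hd h else 1

theorem cl'_eq {η : X} (h : topologicalKrullDim (closure ({η} : Set X)) = 1) :
    cl' (k := k) hreg hd η = ncl (k := k) hreg hd h := dif_pos h

/-- The class of a combination of curves. -/
def cS (S : Finset X) (m : X → ℕ) : PicLoc.PicSet X := ∏ η ∈ S, cl' (k := k) hreg hd η ^ m η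

theorem sdot_pow_left (a b : PicLoc.PicSet X) : ∀ n : ℕ, sdot k (a ^ n) b = (n : ℤ) * sdot k a b
  | 0 => by rw [pow_zero, SymSq10.sdot_one_left]; simp
  | n + 1 => by
    rw [pow_succ, SymSq10.sdot_mul (k := k) hd.le, sdot_pow_left a b n]
    push_cast; ring

theorem sdot_prod {ι : Type*} (s : Finset ι) (c : ι → PicLoc.PicSet X) (n : ι → ℕ) (b : PicLoc.PicSet X) :
    sdot k b (∏ i ∈ s, c i ^ n i) = ∑ i ∈ s, (n i : ℤ) * sdot k b (c i) := by
  classical
  induction s using Finset.induction_on with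
  | empty => rw [Finset.prod_empty, SymSq10.sdot_comm, SymSq10.sdot_one_left]; simp
  | insert a s ha ih =>
    rw [Finset.prod_insert ha, Finset.sum_insert ha, SymSq10.sdot_comm, SymSq10.sdot_mul (k := k) hd.le,
      sdot_pow_left (k := k) hreg hd, SymSq10.sdot_comm (a := c a), SymSq10.sdot_comm (b := b), ih]

theorem sdot_cS (S : Finset X) (m : X → ℕ) (η : X) :
    sdot k (cl' (k := k) hreg hd η) (cS (k := k) hreg hd S m) =
      ∑ j ∈ S, (m j : ℤ) * sdot k (cl' (k := k) hreg hd η) (cl' (k := k) hreg hd j) :=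
  sdot_prod (k := k) hreg hd S _ m _

theorem cdeg_eq_sdot {η : X} (hη : topologicalKrullDim (closure ({η} : Set X)) = 1) {L : X.Modules}
    (hL : PicF.IsInvertible L) :
    cdeg k L (ClSub.quotMod (ptIdeal η)) = sdot k (ncl (k := k) hreg hd hη) (PicGrp.cls L hL) := by
  haveI : IsNoetherian X := CohFound.isNoetherian_of_isProper (X ↘ (Spec (CommRingCat.of k)))
  have hI := isEffCartier_pt (k := k) hreg hd hη
  have hIi := M2.isInvertible_idealMod _ hI
  obtain ⟨M, hM, ⟨e⟩⟩ := M2.exists_inverse hIi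
  have hcls : PicGrp.cls M hM = ncl (k := k) hreg hd hη :=
    eq_inv_of_mul_eq_one_left ((PicGrp.cls_mul_cls_eq_one_iff hM hIi).2 ⟨M2.tensorComm _ _ ≪≫ e⟩)
  have h1 := dot_eq_cdeg_quot (k := k) hd.le hI (Iso.refl _) hM (M2.tensorComm _ _ ≪≫ e) hL
  rw [SymSq10.ndot_eq' (k := k) hM hL, hcls] at h1
  exact h1.symm

omit hreg in
theorem sdim_le_one {C : X.IdealSheafData} (hC : BlowUp.IsEffCartierIdeal C) {y : X} (hy : y ∈ (C.support : Set X)) :
    VarDim.sdim (X ↘ Spec (CommRingCat.of k)) y ≤ 1 := by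
  haveI : IsNoetherian X := CohFound.isNoetherian_of_isProper (X ↘ (Spec (CommRingCat.of k)))
  have h1 : topologicalKrullDim (closure ({y} : Set X)) ≤ ((1 : ℕ) : WithBot ℕ∞) :=
    dim_le_of_subset (C.support.isClosed.closure_subset_iff.2 (Set.singleton_subset_iff.2 hy))
      (dim_support_effCartier hC (e := 1) hd.le)
  rw [VarDim.dim_closure_singleton (X ↘ Spec (CommRingCat.of k))] at h1
  exact_mod_cast h1

omit hreg in
theorem eq_of_spec {η η' : X} (h : topologicalKrullDim (closure ({η} : Set X)) = 1)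
    (h' : topologicalKrullDim (closure ({η'} : Set X)) = 1) (hs : η ⤳ η') : η = η' := by
  by_contra hne
  have h1 := VarDim.sdim_lt_of_specializes (X ↘ Spec (CommRingCat.of k)) hs hne
  rw [sdim_eq_one (k := k) h, sdim_eq_one (k := k) h'] at h1
  exact lt_irrefl 1 h1

/-- The complement of an affine open is a connected union of finitely many curves. -/
theorem exists_curves {U : X.Opens} (hU : IsAffineOpen U) (hne : (U : Set X).Nonempty) :
    ∃ S : Finset X, (∀ η, η ∈ S ↔ η ∉ U ∧ topologicalKrullDim (closure ({η} : Set X)) = 1) ∧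
      (∀ x, x ∉ U ↔ ∃ η ∈ S, η ⤳ x) ∧ ∀ y, y ∉ U → VarDim.sdim (X ↘ Spec (CommRingCat.of k)) y ≤ 1 := by
  classical
  let f := X ↘ Spec (CommRingCat.of k)
  haveI : IsNoetherian X := CohFound.isNoetherian_of_isProper f
  haveI : X.IsSeparated := ⟨by
    rw [terminal.comp_from f |>.symm]
    infer_instance⟩
  obtain ⟨I, hI, hIs⟩ := S1687.result X (fun V W hV hW => hV.inf hW) U hU (U.isOpen.dense hne)
    fun x _ => ⟨haveI := hreg x; RegLoc.isDomain _, haveI := hreg x; RegLoc.ufd_of_isRegularLocalRing _⟩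
  have hmem : ∀ y : X, y ∉ U → y ∈ (I.support : Set X) := fun y hy => by rw [hIs]; exact hy
  have hle : ∀ y : X, y ∉ U → VarDim.sdim f y ≤ 1 := fun y hy => sdim_le_one (k := k) hd hI (hmem y hy)
  have hgen : ∀ x : X, x ∉ U → ∃ η : X, η ∉ U ∧ VarDim.sdim f η = 1 ∧ η ⤳ x := by
    intro x hx
    by_cases hx1 : VarDim.sdim f x = 1
    · exact ⟨x, hx, hx1, specializes_rfl⟩
    have hx0 : VarDim.sdim f x = 0 := by have := hle x hx; omega
    by_contra hno
    have hmax : ∀ y ∈ (I.support : Set X), y ⤳ x → y = x := by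
      intro y hy hyx
      by_contra hne
      rw [hIs] at hy
      have h1 := VarDim.sdim_lt_of_specializes f hyx hne
      exact hno ⟨y, hy, by have := hle y hy; omega, hyx⟩
    have h := ringKrullDim_stalk_of_sdim (k := k) hd x
    rw [SecDiv.ringKrullDim_generic hI (hmem x hx) hmax, hx0] at h
    simp at h
  obtain ⟨G, hG⟩ := VarDim.exists_finite_generic (X := X) U.isOpen.isClosed_compl
  refine ⟨G.filter fun η => η ∉ U ∧ topologicalKrullDim (closure ({η} : Set X)) = 1, fun η => ?_, fun x => ⟨fun hx => ?_, ?_⟩, hle⟩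
  · rw [Finset.mem_filter]
    refine ⟨fun h => h.2, fun h => ⟨?_, h⟩⟩
    obtain ⟨g, hgG, hg⟩ := (hG η).1 h.1
    by_contra hn
    have hne' : g ≠ η := fun e => hn (e ▸ hgG)
    have h1 := VarDim.sdim_lt_of_specializes f hg hne'
    have h2 := hle g ((hG g).2 ⟨g, hgG, specializes_rfl⟩)
    rw [sdim_eq_one (k := k) h.2] at h1
    omega
  · obtain ⟨η, hη, h1, hηx⟩ := hgen x hx
    have h1' : topologicalKrullDim (closure ({η} : Set X)) = 1 := by
      rw [VarDim.dim_closure_singleton f, h1]; rfl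
    refine ⟨η, Finset.mem_filter.2 ⟨?_, hη, h1'⟩, hηx⟩
    obtain ⟨g, hgG, hg⟩ := (hG η).1 hη
    by_contra hn
    have hne' : g ≠ η := fun e => hn (e ▸ hgG)
    have h2 := VarDim.sdim_lt_of_specializes f hg hne'
    have h3 := hle g ((hG g).2 ⟨g, hgG, specializes_rfl⟩)
    omega
  · rintro ⟨η, hη, hs⟩ hx
    exact (Finset.mem_filter.1 hη).2.1 (hs.mem_open U.isOpen hx)

/-- The canonical section of a combination of curves. -/
theorem good_cS (S : Finset X) (hS : ∀ η ∈ S, topologicalKrullDim (closure ({η} : Set X)) = 1) (m : X → ℕ) :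
    Good (cS (k := k) hreg hd S m) fun x => ∀ η ∈ S, 0 < m η → ¬ η ⤳ x := by
  classical
  refine good_prod S _ (fun η x => 0 < m η → ¬ η ⤳ x) fun η hη => good_pow ?_ (m η)
  rw [cl'_eq (k := k) hreg hd (hS η hη)]
  exact exists_curve_sec (k := k) hreg hd (hS η hη)

/-- Combinations of complementary curves with a section that has a zero on the affine open. -/
def Q (U : X.Opens) (S : Finset X) (m : X → ℕ) : Prop :=
  ∃ (L : X.Modules) (hL : PicF.IsInvertible L) (φ : Coh.structureModule X ⟶ L),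
    PicGrp.cls L hL = cS (k := k) hreg hd S m ∧ (∃ y ∈ U, y ∈ CohB1.genLocus L φ) ∧
      ∃ z ∈ U, z ∉ CohB1.genLocus L φ

theorem exists_Q {U : X.Opens} (hU : IsAffineOpen U) (hne : (U : Set X).Nonempty) (S : Finset X)
    (hS : ∀ η ∈ S, topologicalKrullDim (closure ({η} : Set X)) = 1) (hSU : ∀ x, x ∉ U ↔ ∃ η ∈ S, η ⤳ x) :
    ∃ m, Q (k := k) hreg hd U S m := by
  let f := X ↘ Spec (CommRingCat.of k)
  haveI : IsNoetherian X := CohFound.isNoetherian_of_isProper f
  haveI : JacobsonSpace X := LocallyOfFiniteType.jacobsonSpace f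
  obtain ⟨z, hzU, hzc⟩ := nonempty_inter_closedPoints hne U.isOpen.isLocallyClosed
  have hzne : z ≠ genericPoint X := by
    rintro rfl
    have h1 : (Set.univ : Set X) = {genericPoint X} := by
      rw [← (mem_closedPoints_iff.1 hzc).closure_eq, genericPoint_closure]
    haveI : Subsingleton X := ⟨fun a b => by
      have ha : a ∈ ({genericPoint X} : Set X) := h1 ▸ trivial
      have hb : b ∈ ({genericPoint X} : Set X) := h1 ▸ trivial
      exact ha.trans hb.symm⟩
    have h2 : topologicalKrullDim X ≤ 0 := H12.topologicalKrullDim_nonpos_iff.mpr fun x y _ => Subsingleton.elim x y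
    rw [hd] at h2
    exact absurd h2 (by decide)
  have hηU : genericPoint X ∈ U := by
    obtain ⟨y, hy⟩ := hne
    exact (genericPoint_specializes y).mem_open U.isOpen hy
  obtain ⟨a, ha, ha0⟩ : ∃ a : Γ(X, U), z ∉ X.basicOpen a ∧ genericPoint X ∈ X.basicOpen a := by
    by_contra hno
    push Not at hno
    refine hzne (Specializes.antisymm ?_ (genericPoint_specializes z)).eq
    refine specializes_iff_forall_open.2 fun W hW hηW => ?_
    obtain ⟨a, hle, hηa⟩ := hU.exists_basicOpen_le (V := ⟨W, hW⟩) ⟨genericPoint X, hηW⟩ hηU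
    by_contra hzW
    exact hno a (fun h => hzW (hle h)) hηa
  obtain ⟨L, hL, φ, hc, hA⟩ := good_cS (k := k) hreg hd S hS (fun _ => 1)
  have hgl : CohB1.genLocus L φ = U := Opens.ext (Set.ext fun x => by
    show x ∈ CohB1.genLocus L φ ↔ x ∈ U
    rw [hA]
    refine ⟨fun h => by_contra fun hx => ?_, fun hx η hη _ hs => (hSU x).2 ⟨η, hη, hs⟩ hx⟩
    obtain ⟨η, hη, hs⟩ := (hSU x).1 hx
    exact h η hη Nat.one_pos hs)
  subst hgl
  haveI : Coh.IsQCoh (Coh.structureModule X) := M1.isQCoh_structureModule X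
  obtain ⟨n₀, hn⟩ := Amp.exists_extend_genLocus hL φ (Coh.structureModule X)
    (show Γ(Coh.structureModule X, CohB1.genLocus L φ) from a)
  obtain ⟨t', ht'⟩ := hn n₀ le_rfl
  have hO := PicLoc.isInvertible_structureModule X
  have hP := M2.isInvertible_tensorPow hL n₀
  have key : ∀ x ∈ CohB1.genLocus L φ,
      (x ∈ CohB1.genLocus _ (M1.secHom t') ↔ x ∈ X.basicOpen a) := by
    intro x hx
    rw [Amp.mem_genLocus_iff (M2.isInvertible_tensor hO hP), Amp.gval_secHom,
      ← Amp.gm_res (le_top : CohB1.genLocus L φ ≤ ⊤) hx t', ht', Amp.gen_tsec_iff hO hP hx, Amp.gen_smul_one_iff]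
    refine and_iff_left ?_
    have hg : Amp.Gen (Amp.gm L x hx (M2.res L le_top (Amp.gval φ))) := by
      rw [Amp.gm_res]; exact (Amp.mem_genLocus_iff hL φ).1 hx
    rcases n₀ with _ | n
    · rw [Amp.pw_zero]; exact Amp.gen_one x hx
    · exact (Amp.gen_pw_succ hL hx _ n).2 hg
  refine ⟨fun _ => n₀, _, M2.isInvertible_tensor hO hP, M1.secHom t', ?_, ⟨_, hηU, (key _ hηU).2 ha0⟩,
    ⟨z, hzU, fun h => ha ((key z hzU).1 h)⟩⟩
  rw [← AlgEquiv22.cls_tensor hO hP, PicGrp.cls_structureModule_eq_one, one_mul, (show PicGrp.cls (CohB1.tensorPow L n₀) hP = PicGrp.cls L hL ^ n₀ from Subtype.ext (by rw [PicGrp.cls_pow_val, PicGrp.cls_val])), hc, cS, cS,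
    ← Finset.prod_pow]
  simp only [pow_one]

theorem exists_minimal {U : X.Opens} (S : Finset X) (hS : ∀ η ∈ S, topologicalKrullDim (closure ({η} : Set X)) = 1)
    (hout : ∀ η ∈ S, η ∉ U) :
    ∀ (n : ℕ) (m : X → ℕ), ∑ η ∈ S, m η = n → Q (k := k) hreg hd U S m →
      ∃ (m : X → ℕ) (L : X.Modules) (hL : PicF.IsInvertible L) (φ : Coh.structureModule X ⟶ L),
        PicGrp.cls L hL = cS (k := k) hreg hd S m ∧ (∃ y ∈ U, y ∈ CohB1.genLocus L φ) ∧
          (∃ z ∈ U, z ∉ CohB1.genLocus L φ) ∧ ∀ η ∈ S, 0 < m η → η ∈ CohB1.genLocus L φ := by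
  classical
  intro n
  induction n using Nat.strong_induction_on with
  | _ n IH =>
  rintro m hsum ⟨L, hL, φ, hc, ⟨y, hyU, hy⟩, z, hzU, hz⟩
  by_cases hall : ∀ η ∈ S, 0 < m η → η ∈ CohB1.genLocus L φ
  · exact ⟨m, L, hL, φ, hc, ⟨y, hyU, hy⟩, ⟨z, hzU, hz⟩, hall⟩
  push Not at hall
  obtain ⟨η, hηS, hm, hηg⟩ := hall
  have hI := isEffCartier_pt (k := k) hreg hd (hS η hηS)
  have hvan : ∀ x ∈ ((Closeds.closure ({η} : Set X) : Closeds X) : Set X), x ∉ CohB1.genLocus L φ := fun x hx h =>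
    hηg ((specializes_iff_mem_closure.2 hx).mem_open (CohB1.genLocus L φ).isOpen h)
  obtain ⟨t, ht⟩ := exists_lift_of_vanish hL _ φ hvan
  have hns : ∀ x ∈ U, x ∉ ((ptIdeal η).support : Set X) := fun x hx h => by
    rw [Scheme.IdealSheafData.coe_support_vanishingIdeal] at h
    exact hout η hηS ((specializes_iff_mem_closure.2 h).mem_open U.isOpen hx)
  have hiff := genLocus_lift hL hI φ t ht
  refine IH (n - 1) (by have := Finset.single_le_sum (f := m) (fun i _ => Nat.zero_le _) hηS; omega)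
    (Function.update m η (m η - 1)) ?_ ⟨_, M2.isInvertible_tensor (M2.isInvertible_idealMod _ hI) hL,
      M1.secHom t, ?_, ⟨y, hyU, ((hiff y).1 hy).1⟩, z, hzU, fun h => hz ((hiff z).2 ⟨h, hns z hzU⟩)⟩
  · rw [Finset.sum_update_of_mem hηS, Finset.sdiff_singleton_eq_erase]
    rw [← Finset.add_sum_erase S m hηS] at hsum
    omega
  · rw [← AlgEquiv22.cls_tensor (M2.isInvertible_idealMod _ hI) hL, hc, cS, cS, ← Finset.mul_prod_erase S _ hηS,
      ← Finset.mul_prod_erase S _ hηS, Function.update_self, cl'_eq (k := k) hreg hd (hS η hηS)]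
    rw [Finset.prod_congr rfl (g := fun j => cl' (k := k) hreg hd j ^ Function.update m η (m η - 1) j)
      fun j hj => by rw [Function.update_of_ne (Finset.ne_of_mem_erase hj)]]
    obtain ⟨m', hm'⟩ : ∃ m', m η = m' + 1 := ⟨m η - 1, by omega⟩
    rw [hm', Nat.add_sub_cancel, pow_succ', ← mul_assoc, ← mul_assoc]
    congr 1
    rw [ncl, mul_inv_cancel, one_mul]

omit hreg in
/-- A section without zeros on the complement has no zeros at all. -/
theorem genLocus_eq_univ {U : X.Opens} (hU : IsAffineOpen U) {L : X.Modules} (hL : PicF.IsInvertible L)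
    (φ : Coh.structureModule X ⟶ L) {y : X} (hy : y ∈ CohB1.genLocus L φ)
    (hout : ∀ x, x ∉ U → x ∈ CohB1.genLocus L φ) (z : X) : z ∈ CohB1.genLocus L φ := by
  by_contra hz
  haveI : IsNoetherian X := CohFound.isNoetherian_of_isProper (X ↘ (Spec (CommRingCat.of k)))
  have hφ : φ ≠ 0 := fun h => by
    rw [Amp.mem_genLocus_iff hL, h] at hy
    rw [show Amp.gval (0 : Coh.structureModule X ⟶ L) = 0 from rfl, Amp.gm, map_zero] at hy
    exact one_ne_zero (hy.1 ((smul_zero (1 : X.presheaf.stalk y)).trans (smul_zero 0).symm))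
  have hne : PicF2.zeroScheme L φ ≠ ⊤ := fun h => by
    have := AffCompl.coe_support_zeroScheme hL φ
    rw [h] at this
    have h2 : z ∈ ((⊤ : X.IdealSheafData).support : Set X) := by rw [this]; exact hz
    simp at h2
  obtain ⟨η, hη, hη1⟩ := exists_curve_in_divisor (k := k) hd (IrrDiv13.isEffCartier_zeroScheme hL φ hφ) hne
  rw [AffCompl.coe_support_zeroScheme hL φ] at hη
  refine not_curve_subset_affine (k := k) hd hU hη1 fun x hx => by_contra fun hxU => hη ?_
  exact (specializes_iff_mem_closure.2 hx).mem_open (CohB1.genLocus L φ).isOpen (hout x hxU)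

omit hreg in
/-- Two kinds of complementary curves meet. -/
theorem exists_meet {U : X.Opens} (hU : IsAffineOpen U) (hne : (U : Set X).Nonempty) (S : Finset X)
    (hSU : ∀ x, x ∉ U ↔ ∃ η ∈ S, η ⤳ x) (P : X → Prop) {j₀ i₀ : X} (hj : j₀ ∈ S) (hPj : P j₀) (hi : i₀ ∈ S)
    (hPi : ¬ P i₀) : ∃ i ∈ S, ¬ P i ∧ ∃ j ∈ S, P j ∧ ∃ x, i ⤳ x ∧ j ⤳ x := by
  classical
  have hc := (AffCompl.isConnected_compl_affineOpen (X ↘ Spec (CommRingCat.of k)) hd.ge hU hne).isPreconnected
  let A : (X → Prop) → Set X := fun R => ⋃ η ∈ S.filter R, closure {η}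
  have hA : ∀ (R : X → Prop), IsClosed (A R) := fun R => isClosed_biUnion_finset fun _ _ => isClosed_closure
  have hmem : ∀ (R : X → Prop) (x : X), x ∈ A R ↔ ∃ η ∈ S, R η ∧ η ⤳ x := fun R x => by
    simp only [A, Set.mem_iUnion, Finset.mem_filter, exists_prop, ← specializes_iff_mem_closure, and_assoc]
  obtain ⟨x, -, hx1, hx2⟩ := isPreconnected_closed_iff.1 hc (A fun η => ¬ P η) (A P) (hA _) (hA _)
    (fun x hx => by
      obtain ⟨η, hη, hs⟩ := (hSU x).1 hx
      by_cases h : P η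
      · exact Or.inr ((hmem _ x).2 ⟨η, hη, h, hs⟩)
      · exact Or.inl ((hmem _ x).2 ⟨η, hη, h, hs⟩))
    ⟨i₀, (hSU i₀).2 ⟨i₀, hi, specializes_rfl⟩, (hmem _ _).2 ⟨i₀, hi, hPi, specializes_rfl⟩⟩
    ⟨j₀, (hSU j₀).2 ⟨j₀, hj, specializes_rfl⟩, (hmem _ _).2 ⟨j₀, hj, hPj, specializes_rfl⟩⟩
  obtain ⟨i, hiS, hiP, his⟩ := (hmem _ x).1 hx1
  obtain ⟨j, hjS, hjP, hjs⟩ := (hmem _ x).1 hx2
  exact ⟨i, hiS, hiP, j, hjS, hjP, x, his, hjs⟩

/-- Some combination is nonnegative on all complementary curves and positive on one. -/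
theorem exists_nonneg_pos {U : X.Opens} (hU : IsAffineOpen U) (hne : (U : Set X).Nonempty) (S : Finset X)
    (hS : ∀ η ∈ S, topologicalKrullDim (closure ({η} : Set X)) = 1) (hSU : ∀ x, x ∉ U ↔ ∃ η ∈ S, η ⤳ x) :
    ∃ m : X → ℕ, (∀ η ∈ S, 0 ≤ sdot k (cl' (k := k) hreg hd η) (cS (k := k) hreg hd S m)) ∧
      ∃ η ∈ S, 0 < sdot k (cl' (k := k) hreg hd η) (cS (k := k) hreg hd S m) := by
  classical
  obtain ⟨m₀, hm₀⟩ := exists_Q (k := k) hreg hd hU hne S hS hSU
  obtain ⟨m, L, hL, φ, hc, ⟨y, -, hy⟩, ⟨z, -, hz⟩, hgen⟩ := exists_minimal (k := k) hreg hd S hS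
    (fun η hη => (hSU η).2 ⟨η, hη, specializes_rfl⟩) _ m₀ rfl hm₀
  obtain ⟨M, hM, ψ, hcM, hψ⟩ := good_cS (k := k) hreg hd S hS m
  have hψη : ∀ η ∈ S, m η = 0 → η ∈ CohB1.genLocus M ψ := fun η hη h0 => by
    rw [hψ]
    intro η' hη' hpos hs
    obtain rfl := eq_of_spec (k := k) hd (hS η' hη') (hS η hη) hs
    omega
  have hnn : ∀ η ∈ S, 0 ≤ sdot k (cl' (k := k) hreg hd η) (cS (k := k) hreg hd S m) := by
    intro η hη
    rw [cl'_eq (k := k) hreg hd (hS η hη)]
    rcases Nat.eq_zero_or_pos (m η) with h0 | h0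
    · rw [← hcM]; exact (sdot_of_section (k := k) hreg hd (hS η hη) hM ψ (hψη η hη h0)).1
    · rw [← hc]; exact (sdot_of_section (k := k) hreg hd (hS η hη) hL φ (hgen η hη h0)).1
  refine ⟨m, hnn, ?_⟩
  by_contra hno
  push Not at hno
  have hzero : ∀ (η : X) (hη : η ∈ S), sdot k (ncl (k := k) hreg hd (hS η hη)) (cS (k := k) hreg hd S m) = 0 := fun η hη => by
    rw [← cl'_eq (k := k) hreg hd (hS η hη)]; exact le_antisymm (hno η hη) (hnn η hη)
  by_cases hall : ∀ η ∈ S, 0 < m η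
  · refine hz (genLocus_eq_univ (k := k) hd hU hL φ hy (fun x hx => ?_) z)
    obtain ⟨η, hη, hs⟩ := (hSU x).1 hx
    exact (sdot_of_section (k := k) hreg hd (hS η hη) hL φ (hgen η hη (hall η hη))).2 (hc ▸ hzero η hη) x hs
  push Not at hall
  obtain ⟨i₀, hi₀, hmi₀⟩ := hall
  by_cases hex : ∃ j ∈ S, 0 < m j
  · obtain ⟨j₀, hj₀, hmj₀⟩ := hex
    obtain ⟨i, hi, hmi, j, hj, hmj, x, hix, hjx⟩ := exists_meet (k := k) hd hU hne S hSU (fun η => 0 < m η) hj₀ hmj₀ hi₀
      (not_lt.2 hmi₀)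
    exact (hψ x).1 ((sdot_of_section (k := k) hreg hd (hS i hi) hM ψ (hψη i hi (by omega))).2 (hcM ▸ hzero i hi) x hix)
      j hj hmj hjx
  push Not at hex
  have h1 : PicGrp.cls L hL = 1 := by
    rw [hc, cS]
    exact Finset.prod_eq_one fun η hη => by rw [Nat.le_zero.1 (hex η hη), pow_zero]
  have hO := PicLoc.isInvertible_structureModule X
  obtain ⟨e⟩ := (PicGrp.cls_eq_cls_iff hL hO).1 (h1.trans (PicGrp.cls_structureModule_eq_one ..).symm)
  let a : Γ(X, ⊤) := Amp.gval (φ ≫ e.hom)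
  have hga : ∀ x, x ∈ CohB1.genLocus L φ ↔ x ∈ X.basicOpen a := fun x => by
    rw [Amp.mem_genLocus_iff hL, ← Amp.gen_smul_one_iff (x := x) (U := ⊤) trivial]
    exact (Amp.gen_map_iso e (U := ⊤) (x := x) trivial (Amp.gval φ)).symm
  rcases eq_or_ne a 0 with h0 | h0
  · have := (hga y).1 hy
    rw [h0, Scheme.basicOpen_zero] at this
    exact this
  · letI := (isField_of_universallyClosed k (X ↘ Spec (CommRingCat.of k))).toField
    exact hz ((hga z).2 (by rw [Scheme.basicOpen_of_isUnit _ (isUnit_iff_ne_zero.2 h0)]; trivial))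

theorem sdot_curve_nonneg {i j : X} (hi : topologicalKrullDim (closure ({i} : Set X)) = 1)
    (hj : topologicalKrullDim (closure ({j} : Set X)) = 1) (hne : j ≠ i) :
    0 ≤ sdot k (cl' (k := k) hreg hd i) (cl' (k := k) hreg hd j) ∧
      ((∃ x, i ⤳ x ∧ j ⤳ x) → 0 < sdot k (cl' (k := k) hreg hd i) (cl' (k := k) hreg hd j)) := by
  rw [cl'_eq (k := k) hreg hd hi, cl'_eq (k := k) hreg hd hj]
  obtain ⟨M, hM, φ, hc, hφ⟩ := exists_curve_sec (k := k) hreg hd hj
  rw [← hc]
  have h := sdot_of_section (k := k) hreg hd hi hM φ ((hφ i).2 fun hs => hne (eq_of_spec (k := k) hd hj hi hs))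
  refine ⟨h.1, fun ⟨x, hix, hjx⟩ => h.1.lt_of_ne fun h0 => (hφ x).1 (h.2 h0.symm x hix) hjx⟩

/-- Some combination with all multiplicities positive is positive on all complementary curves. -/
theorem exists_pos {U : X.Opens} (hU : IsAffineOpen U) (hne : (U : Set X).Nonempty) (S : Finset X)
    (hS : ∀ η ∈ S, topologicalKrullDim (closure ({η} : Set X)) = 1) (hSU : ∀ x, x ∉ U ↔ ∃ η ∈ S, η ⤳ x) :
    ∃ m : X → ℕ, (∀ η ∈ S, 0 < m η) ∧
      ∀ η ∈ S, 0 < sdot k (cl' (k := k) hreg hd η) (cS (k := k) hreg hd S m) := by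
  classical
  let s : X → X → ℤ := fun η j => sdot k (cl' (k := k) hreg hd η) (cl' (k := k) hreg hd j)
  let d : X → (X → ℕ) → ℤ := fun η m => sdot k (cl' (k := k) hreg hd η) (cS (k := k) hreg hd S m)
  have hd' : ∀ η m, d η m = ∑ j ∈ S, (m j : ℤ) * s η j := fun η m => sdot_cS (k := k) hreg hd S m η
  have step : ∀ (n : ℕ) (m : X → ℕ), (S.filter fun η => ¬ 0 < d η m).card = n → (∀ η ∈ S, 0 ≤ d η m) →
      (∃ η ∈ S, 0 < d η m) → ∃ m : X → ℕ, ∀ η ∈ S, 0 < d η m := by
    intro n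
    induction n using Nat.strong_induction_on with
    | _ n IH =>
    intro m hn hnn ⟨j₀, hj₀, hpj₀⟩
    by_cases hall : ∀ η ∈ S, 0 < d η m
    · exact ⟨m, hall⟩
    push Not at hall
    obtain ⟨i₀, hi₀, hpi₀⟩ := hall
    obtain ⟨i, hi, hpi, j, hj, hpj, hmeet⟩ := exists_meet (k := k) hd hU hne S hSU (fun η => 0 < d η m) hj₀ hpj₀ hi₀
      (not_lt.2 hpi₀)
    let N : ℕ := (s j j).natAbs + 1
    let m' : X → ℕ := fun η => N * m η + if η = j then 1 else 0
    have hm' : ∀ η, d η m' = (N : ℤ) * d η m + s η j := fun η => by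
      rw [hd', hd', Finset.mul_sum]
      simp only [m', Nat.cast_add, Nat.cast_mul, add_mul, Finset.sum_add_distrib, mul_assoc]
      congr 1
      rw [Finset.sum_eq_single_of_mem j hj (fun b _ hb => by simp [hb])]
      simp
    have hP : ∀ η ∈ S, 0 ≤ d η m' ∧ ((0 < d η m ∨ η = i) → 0 < d η m') := by
      intro η hη
      rw [hm']
      have h0 := hnn η hη
      by_cases hηj : η = j
      · subst hηj
        have h1 : (N : ℤ) ≤ (N : ℤ) * d η m := le_mul_of_one_le_right (by positivity) hpj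
        have h2 : -(s η η) < (N : ℤ) := by simp only [N]; push_cast; have := neg_le_abs (s η η); omega
        exact ⟨by omega, fun _ => by omega⟩
      · have h1 := sdot_curve_nonneg (k := k) hreg hd (hS η hη) (hS j hj) (Ne.symm hηj)
        have h2 : 0 ≤ (N : ℤ) * d η m := mul_nonneg (by positivity) h0
        refine ⟨add_nonneg h2 h1.1, ?_⟩
        rintro (hp | rfl)
        · exact add_pos_of_pos_of_nonneg (mul_pos (by positivity) hp) h1.1
        · exact add_pos_of_nonneg_of_pos h2 (h1.2 hmeet)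
    refine IH _ ?_ m' rfl (fun η hη => (hP η hη).1) ⟨i, hi, (hP i hi).2 (Or.inr rfl)⟩
    rw [← hn]
    refine Finset.card_lt_card ((Finset.ssubset_iff_of_subset fun η hη => ?_).2 ⟨i, ?_, ?_⟩)
    · rw [Finset.mem_filter] at hη ⊢
      exact ⟨hη.1, fun h => hη.2 ((hP η hη.1).2 (Or.inl h))⟩
    · exact Finset.mem_filter.2 ⟨hi, hpi⟩
    · exact fun h => (Finset.mem_filter.1 h).2 ((hP i hi).2 (Or.inr rfl))
  obtain ⟨m₀, hnn, hpos⟩ := exists_nonneg_pos (k := k) hreg hd hU hne S hS hSU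
  obtain ⟨m, hm⟩ := step _ m₀ rfl hnn hpos
  let N : ℕ := (∑ η ∈ S, (∑ j ∈ S, s η j).natAbs) + 1
  refine ⟨fun η => N * m η + 1, fun η _ => Nat.succ_pos _, fun η hη => ?_⟩
  show 0 < d η _
  rw [hd']
  simp only [Nat.cast_add, Nat.cast_mul, Nat.cast_one, add_mul, Finset.sum_add_distrib, mul_assoc, one_mul]
  rw [← Finset.mul_sum, ← hd']
  have h1 : (N : ℤ) ≤ (N : ℤ) * d η m := le_mul_of_one_le_right (by positivity) (hm η hη)
  have h2 : (∑ j ∈ S, s η j).natAbs < N :=
    Nat.lt_succ_of_le (Finset.single_le_sum (f := fun η => (∑ j ∈ S, s η j).natAbs) (fun i _ => Nat.zero_le _) hη)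
  omega

/-- The divisor. -/
theorem exists_ample_divisor {U : X.Opens} (hU : IsAffineOpen U) (hne : (U : Set X).Nonempty) :
    ∃ I : X.IdealSheafData, BlowUp.IsEffCartierIdeal I ∧ (I.support : Set X) = (U : Set X)ᶜ ∧
      ∀ L : X.Modules, PicF.IsInvertible L → ClSub.IsInverseOf L (ClSub.idealMod I) → CohB1.IsAmple L := by
  classical
  haveI : IsNoetherian X := CohFound.isNoetherian_of_isProper (X ↘ (Spec (CommRingCat.of k)))
  obtain ⟨S, hS', hSU, hle⟩ := exists_curves (k := k) hreg hd hU hne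
  have hS : ∀ η ∈ S, topologicalKrullDim (closure ({η} : Set X)) = 1 := fun η hη => ((hS' η).1 hη).2
  obtain ⟨m, hm, hpos⟩ := exists_pos (k := k) hreg hd hU hne S hS hSU
  obtain ⟨L, hL, φ, hc, hA⟩ := good_cS (k := k) hreg hd S hS m
  have hgl : ∀ x, x ∈ CohB1.genLocus L φ ↔ x ∈ U := fun x => by
    rw [hA]
    refine ⟨fun h => by_contra fun hx => ?_, fun hx η hη _ hs => (hSU x).2 ⟨η, hη, hs⟩ hx⟩
    obtain ⟨η, hη, hs⟩ := (hSU x).1 hx
    exact h η hη (hm η hη) hs
  have hnef : ∀ C : X.IdealSheafData, IsIntegral C.subscheme → topologicalKrullDim (C.support : Set X) = 1 →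
      0 < cdeg k L (ClSub.quotMod C) := by
    intro C hC h1
    obtain ⟨ξ, rfl, hξ⟩ := SurfR.exists_eq_ptIdeal C hC h1
    rw [cdeg_eq_sdot (k := k) hreg hd hξ hL, Int.cast_pos]
    by_cases hξU : ξ ∈ U
    · have h := sdot_of_section (k := k) hreg hd hξ hL φ ((hgl ξ).2 hξU)
      exact h.1.lt_of_ne fun h0 => not_curve_subset_affine (k := k) hd hU hξ fun x hx =>
        (hgl x).1 (h.2 h0.symm x (specializes_iff_mem_closure.2 hx))
    · rw [hc, ← cl'_eq (k := k) hreg hd hξ]
      exact hpos ξ ((hS' ξ).2 ⟨hξU, hξ⟩)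
  have heff : ∀ Z : X.IdealSheafData, IsIntegral Z.subscheme → ∃ (n : ℕ) (s : Coh.structureModule Z.subscheme ⟶
      CohB1.tensorPow ((Scheme.Modules.pullback Z.subschemeι).obj L) (n + 1)), s ≠ 0 := by
    intro Z hZ
    let ι := Z.subschemeι
    have hLZ := Twist.isInvertible_pullback ι hL
    have hnz : ∀ (n : ℕ) (s : Coh.structureModule Z.subscheme ⟶
        CohB1.tensorPow ((Scheme.Modules.pullback ι).obj L) n) (x : Z.subscheme), x ∈ CohB1.genLocus _ s → s ≠ 0 := by
      intro n s x hx h0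
      rw [h0, Amp.mem_genLocus_iff (M2.isInvertible_tensorPow hLZ n),
        show Amp.gval (0 : Coh.structureModule Z.subscheme ⟶ CohB1.tensorPow ((Scheme.Modules.pullback ι).obj L) n) = 0
          from rfl, Amp.gm, map_zero] at hx
      exact one_ne_zero (hx.1 ((smul_zero (1 : Z.subscheme.presheaf.stalk x)).trans (smul_zero 0).symm))
    let z := genericPoint Z.subscheme
    by_cases hz : ι z ∈ U
    · let ψ := (Twist.pullbackUnitIso ι).symm.hom ≫ (Scheme.Modules.pullback ι).map φ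
      have hψ : CohB1.genLocus _ ψ = ι ⁻¹ᵁ CohB1.genLocus L φ := Amp.genLocus_pullback ι hL φ _
      refine ⟨0, SecTwist.powHom ψ 1, hnz _ _ z ?_⟩
      rw [Amp.genLocus_powHom hLZ ψ 0, hψ]
      exact (hgl _).2 hz
    have hsub : (Z.support : Set X) = closure {ι z} := by
      rw [← Set.image_singleton, ι.isClosedEmbedding.closure_image_eq, genericPoint_closure,
        Set.image_univ, Scheme.IdealSheafData.range_subschemeι]
    have hsd := hle _ hz
    have hdim : topologicalKrullDim (Z.support : Set X) =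
        (VarDim.sdim (X ↘ Spec (CommRingCat.of k)) (ι z) : WithBot ℕ∞) := by
      rw [hsub, VarDim.dim_closure_singleton (X ↘ Spec (CommRingCat.of k))]
    have hamp : CohB1.IsAmple ((Scheme.Modules.pullback ι).obj L) := by
      rcases Nat.le_one_iff_eq_zero_or_eq_one.1 hsd with h | h
      · haveI : IsAffine Z.subscheme := AmpleFin18.isAffine_of_dim_le_zero (by
          rw [AmpleFin18.dim_subscheme Z rfl, hdim, h]; rfl)
        exact AmpleFin18.isAmple_of_isAffine hLZ
      · have h1 : topologicalKrullDim (Z.support : Set X) = 1 := by rw [hdim, h]; rfl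
        exact isAmple_pullback_of_cdeg_pos k Z h1 hL (hnef Z hZ h1)
    obtain ⟨n, s, hzs, -⟩ := hamp.2.2 z
    exact ⟨n, s, hnz _ s z hzs⟩
  have hamp := isAmple_of_strictlyNef_effective k hL hnef heff
  obtain ⟨y, hy⟩ := hne
  have hφ : φ ≠ 0 := fun h => by
    have hy' := (Amp.mem_genLocus_iff hL φ).1 ((hgl y).2 hy)
    rw [h, show Amp.gval (0 : Coh.structureModule X ⟶ L) = 0 from rfl, Amp.gm, map_zero] at hy'
    exact one_ne_zero (hy'.1 ((smul_zero (1 : X.presheaf.stalk y)).trans (smul_zero 0).symm))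
  have hI := IrrDiv13.isEffCartier_zeroScheme hL φ hφ
  refine ⟨PicF2.zeroScheme L φ, hI, ?_, fun L' hL' hinv => ?_⟩
  · rw [AffCompl.coe_support_zeroScheme hL φ]
    exact congrArg compl (Set.ext hgl)
  · obtain ⟨D, hD, ⟨ε⟩⟩ := M2.exists_inverse hL
    obtain ⟨eD⟩ := IrrDiv13.nonempty_inverse_iso_zeroScheme hL hD ε φ hφ
    have hIi := M2.isInvertible_idealMod _ hI
    have h1 := (PicGrp.cls_mul_cls_eq_one_iff hL hIi).2 ⟨PicGrp.tensorModIso (Iso.refl L) eD.symm ≪≫ ε⟩
    have h2 := (PicGrp.cls_mul_cls_eq_one_iff hL' hIi).2 hinv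
    obtain ⟨e⟩ := (PicGrp.cls_eq_cls_iff hL hL').1 (mul_right_cancel (h1.trans h2.symm))
    exact Amp.isAmple_of_iso e hamp

end Groth.Agent.Goodman10

end
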