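import Groth.Agent.Lib.SymSq10.Coh
import Groth.Agent.Lib.NumPoly18.SurfCones
import Groth.Agent.Lib.NumPoly18.SurfCartier
import Groth.Agent.Lib.NumPoly18.EffClass
import Groth.Agent.Lib.CurveCoh17.Twist
import Groth.Agent.Lib.CurveCoh17.IdealPow

/-!
# Curves on regular proper surfaces and sections of invertible modules
-/

set_option autoImplicit false
set_option linter.style.haveILetI false
set_option linter.unusedSectionVars false
set_option maxHeartbeats 1000000
set_option backward.isDefEq.respectTransparency false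
set_option backward.isDefEq.respectTransparency.types false

universe u

open CategoryTheory CategoryTheory.Limits AlgebraicGeometry TopologicalSpace Opposite

noncomputable section

namespace Groth.Agent.Goodman10

open Groth.Agent.NumPoly18 Groth.Agent.Snapper
open Groth.Agent.SymSq10 (sdot)

noncomputable local instance instLawCurves (Y : Scheme.{u}) : PicGrp.Law Y := M2.law Y

section Free

variable {X : Scheme.{u}} {L : X.Modules}

/-- A section vanishing on a reduced closed subscheme lifts to the twist by its ideal. -/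
theorem exists_lift_of_vanish (hL : PicF.IsInvertible L) (Z : Closeds X) (φ : Coh.structureModule X ⟶ L)
    (hZ : ∀ x ∈ (Z : Set X), x ∉ CohB1.genLocus L φ) :
    ∃ t : Γ(CohB1.tensorMod (ClSub.idealMod (Scheme.IdealSheafData.vanishingIdeal Z)) L, ⊤),
      (CurveCoh17.twistIncl (Scheme.IdealSheafData.vanishingIdeal Z) L).app ⊤ t = Amp.gval φ := by
  let I := Scheme.IdealSheafData.vanishingIdeal Z
  have hS := CurveCoh17.twistSES hL I
  let S := (ShortComplex.mk (ClSub.idealModι I) (ClSub.toSubscheme I) (kernel.condition _)).map (M2.tensorR L)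
  let v : Γ(CohB1.tensorMod (Coh.structureModule X) L, ⊤) := (M2.tensorLUnit L).inv.app ⊤ (Amp.gval φ)
  have hloc : ∀ x : X, ∃ (U : X.Opens), x ∈ U ∧ M1.mres _ (le_top : U ≤ ⊤) (S.g.app ⊤ v) = 0 := by
    intro x
    obtain ⟨U, e, a, hxU, -, hU, he, ha, hgl⟩ := Amp.exists_local hL φ (V := ⊤) (x := x) trivial
    refine ⟨U, hxU, ?_⟩
    have hmem : a ∈ (I.ideal ⟨U, hU⟩ : Set Γ(X, U)) := by
      rw [SetLike.mem_coe, Scheme.IdealSheafData.vanishingIdeal_ideal, PrimeSpectrum.mem_vanishingIdeal]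
      intro p hp
      have hx' : hU.fromSpec p ∈ U := hU.range_fromSpec.le ⟨p, rfl⟩
      have hn : hU.fromSpec p ∉ X.basicOpen a := fun h => hZ _ hp (by rw [← hgl] at h; exact h.1)
      by_contra hpa
      exact hn (by
        change p ∈ hU.fromSpec ⁻¹ᵁ X.basicOpen a
        rw [hU.fromSpec_preimage_basicOpen]
        exact hpa)
    rw [← M2.range_idealIncl I ⟨U, hU⟩] at hmem
    obtain ⟨b, hb⟩ := hmem
    have hv : M1.mres _ (le_top : U ≤ ⊤) v = M2.tsec (Coh.structureModule X) L a e := by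
      refine (M1.map_app_eq (M2.tensorLUnit L).inv (le_top : U ≤ ⊤) (Amp.gval φ)).symm.trans ?_
      apply (ConcreteCategory.bijective_of_isIso ((M2.tensorLUnit L).hom.app U)).1
      refine Eq.trans ?_ (CurveCoh17.tensorLUnit_tsec a e).symm
      rw [ha]
      exact congrArg (fun ψ => ψ.app U (M1.mres L (le_top : U ≤ ⊤) (Amp.gval φ))) (M2.tensorLUnit L).inv_hom_id
    refine (M1.map_app_eq S.g (le_top : U ≤ ⊤) v).symm.trans ?_
    erw [hv]
    refine (M2.tensorMap_tsec (ClSub.toSubscheme I) (𝟙 L) a e).trans ?_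
    rw [show (ClSub.toSubscheme I).app U a = 0 from by
      rw [← hb]
      exact congrArg (fun ψ => ψ.app U b) (kernel.condition (ClSub.toSubscheme I))]
    exact Amp.tsec_zero_left _
  choose U hxU hU using hloc
  have h0 : S.g.app ⊤ v = 0 := M1.modules_eq_of_locally_eq _ ⊤ U (fun _ => le_top)
    (fun x _ => Opens.mem_iSup.2 ⟨x, hxU x⟩) _ _ fun x => (hU x).trans (map_zero _).symm
  haveI := hS.mono_f
  obtain ⟨t, ht⟩ := M1.sections_exact (S := S) hS.exact ⊤ v h0
  refine ⟨t, ?_⟩
  show (M2.tensorMap (ClSub.idealModι I) (𝟙 L) ≫ (M2.tensorLUnit L).hom).app ⊤ t = _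
  rw [Scheme.Modules.Hom.comp_app, CategoryTheory.comp_apply]
  erw [ht]
  exact congrArg (fun ψ => ψ.app ⊤ (Amp.gval φ)) (M2.tensorLUnit L).inv_hom_id

/-- Off the divisor the lifted section generates where the section does. -/
theorem mem_genLocus_lift (hL : PicF.IsInvertible L) {I : X.IdealSheafData} (hI : BlowUp.IsEffCartierIdeal I)
    (φ : Coh.structureModule X ⟶ L) (t : Γ(CohB1.tensorMod (ClSub.idealMod I) L, ⊤))
    (ht : (CurveCoh17.twistIncl I L).app ⊤ t = Amp.gval φ) {x : X} (hx : x ∈ CohB1.genLocus L φ) :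
    x ∈ CohB1.genLocus (CohB1.tensorMod (ClSub.idealMod I) L) (M1.secHom t) := by
  have hIi := M2.isInvertible_idealMod I hI
  have hM := M2.isInvertible_tensor hIi hL
  rw [Amp.mem_genLocus_iff hM, Amp.gval_secHom]
  rw [Amp.mem_genLocus_iff hL, ← ht] at hx
  obtain ⟨W, g, hxW, -, -, hg⟩ := Amp.exists_isGenerator hM (V := ⊤) (x := x) trivial
  obtain ⟨c, hc⟩ := (Amp.gen_of_isGenerator hg hxW).2 (Amp.gm _ x (U := ⊤) trivial t)
  simp only at hc
  have e : Amp.gm L x (U := ⊤) trivial ((CurveCoh17.twistIncl I L).app ⊤ t) =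
      c • M2.stMap ((M2.pmF X).map (CurveCoh17.twistIncl I L)) x (Amp.gm _ x hxW g) := by
    rw [← map_smul, hc]
    exact (M2.stMap_sg ((M2.pmF X).map (CurveCoh17.twistIncl I L)) (U := ⊤) (x := x) trivial t).symm
  rw [e] at hx
  have hu : IsUnit c := by
    obtain ⟨r, hr⟩ := hx.2 (M2.stMap ((M2.pmF X).map (CurveCoh17.twistIncl I L)) x (Amp.gm _ x hxW g))
    have h1 : (r * c - 1) • (c • M2.stMap ((M2.pmF X).map (CurveCoh17.twistIncl I L)) x (Amp.gm _ x hxW g)) =
        (0 : X.presheaf.stalk x) • (c • M2.stMap ((M2.pmF X).map (CurveCoh17.twistIncl I L)) x (Amp.gm _ x hxW g)) := by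
      rw [zero_smul, sub_smul, one_smul, sub_eq_zero, mul_comm r c, mul_smul]
      exact congrArg (c • ·) hr
    exact IsUnit.of_mul_eq_one_right r (sub_eq_zero.1 (hx.1 h1))
  rw [← hc]
  exact ((Amp.gen_of_isGenerator hg hxW).ne_zero_smul c).2 hu

/-- A divisor has a section generating exactly off it. -/
theorem exists_sec_of_effCartier {I : X.IdealSheafData} (hI : BlowUp.IsEffCartierIdeal I) {M : X.Modules}
    (hM : PicF.IsInvertible M) (hinv : ClSub.IsInverseOf M (ClSub.idealMod I)) :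
    ∃ φ : Coh.structureModule X ⟶ M, ∀ x : X, x ∈ CohB1.genLocus M φ ↔ x ∉ (I.support : Set X) := by
  obtain ⟨e⟩ := hinv
  have hIi := M2.isInvertible_idealMod I hI
  let ε : CohB1.tensorMod (ClSub.idealMod I) M ≅ Coh.structureModule X := M2.tensorComm _ _ ≪≫ e
  refine ⟨ε.inv ≫ CurveCoh17.twistIncl I M, fun x => ?_⟩
  obtain ⟨U, hxU, a, ha, hIU⟩ := hI x
  obtain ⟨V, em, hxV, hVU, hV, hem⟩ := Amp.exists_isGenerator hM (V := U.1) (x := x) hxU
  let a' : Γ(X, V) := M1.ores hVU a
  obtain ⟨b, hb⟩ : a ∈ Set.range (M2.idealIncl I (U := U.1)) := by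
    rw [M2.range_idealIncl, hIU]; exact Ideal.mem_span_singleton_self a
  let b' : Γ(ClSub.idealMod I, V) := M1.mres _ hVU b
  have hb' : M2.idealIncl I b' = a' := by
    refine (M2.idealIncl_res I hVU b).trans ?_
    rw [hb]
  have hgen := CurveOm17.isGen_tsec (A := ClSub.idealMod I) (B := M)
    (Twist.IsGen.mres (show Twist.IsGen _ U.1 b from M2.isGenerator_idealMod I a ha hIU b hb) hVU) hem
  obtain ⟨r, hr⟩ := CurveOm17.exists_eq_smul_of_isGen hgen (ε.inv.app V (M1.one V))
  have hru : IsUnit r := by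
    refine IsUnit.of_mul_eq_one (show Γ(X, V) from ε.hom.app V (M2.tsec _ M b' em)) ?_
    refine Eq.trans ?_ (congrArg (fun ψ => ψ.app V (M1.one V)) ε.inv_hom_id)
    show r * _ = ε.hom.app V (ε.inv.app V (M1.one V))
    rw [hr, Scheme.Modules.Hom.app_smul]
    rfl
  have hval : M1.mres M (le_top : V ≤ ⊤) (Amp.gval (ε.inv ≫ CurveCoh17.twistIncl I M)) = (r * a') • em := by
    refine (Amp.res_gval _ V).trans ?_
    show (CurveCoh17.twistIncl I M).app V (ε.inv.app V (M1.one V)) = _
    rw [hr, Scheme.Modules.Hom.app_smul]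
    show r • (M2.tensorLUnit M).hom.app V ((M2.tensorMap (ClSub.idealModι I) (𝟙 M)).app V (M2.tsec _ M b' em)) = _
    rw [M2.tensorMap_tsec, CurveCoh17.tensorLUnit_tsec, mul_smul]
    exact congrArg (fun z : Γ(X, V) => r • z • em) hb'
  have h1 := Amp.genLocus_inf_eq_basicOpen hM (ε.inv ≫ CurveCoh17.twistIncl I M) hem hval.symm
  have hmem : x ∈ CohB1.genLocus M (ε.inv ≫ CurveCoh17.twistIncl I M) ↔ x ∈ X.basicOpen a' := by
    have h2 : x ∈ X.basicOpen (r * a') ↔ x ∈ X.basicOpen a' := by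
      rw [Scheme.basicOpen_mul, Scheme.basicOpen_of_isUnit _ hru]
      exact ⟨fun h => h.2, fun h => ⟨hxV, h⟩⟩
    rw [← h2, ← h1]
    exact ⟨fun h => ⟨h, hxV⟩, fun h => h.1⟩
  rw [hmem, SetLike.mem_coe, Scheme.IdealSheafData.mem_support_iff_of_mem (U := U) hxU, hIU, Scheme.mem_zeroLocus_iff,
    show X.basicOpen a' = V ⊓ X.basicOpen a from Scheme.basicOpen_res X a (homOfLE hVU).op]
  constructor
  · exact fun h h' => h' a (Ideal.mem_span_singleton_self a) h.2
  · intro h
    refine ⟨hxV, ?_⟩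
    by_contra hn
    refine h fun f hf hxf => hn ?_
    obtain ⟨c, rfl⟩ := Ideal.mem_span_singleton'.1 hf
    rw [Scheme.basicOpen_mul] at hxf
    exact hxf.2

end Free

variable {k : Type u} [Field k] {X : Scheme.{u}} [X.Over (Spec (CommRingCat.of k))]
  [IsProper (X ↘ Spec (CommRingCat.of k))] [IsIntegral X]
  (hreg : ∀ x : X, IsRegularLocalRing (X.presheaf.stalk x))
  (hd : topologicalKrullDim X = ((2 : ℕ) : WithBot ℕ∞))
include k hreg hd

/-- Curves on a regular surface are Cartier divisors. -/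
theorem isEffCartier_pt {η : X} (hη : topologicalKrullDim (closure ({η} : Set X)) = 1) :
    BlowUp.IsEffCartierIdeal (ptIdeal η) := by
  haveI : IsNoetherian X := CohFound.isNoetherian_of_isProper (X ↘ (Spec (CommRingCat.of k)))
  obtain ⟨hI, z, hz, hzη⟩ := isIntegral_pt η
  haveI := hI
  obtain rfl := (genericPoint_spec _).eq hz
  refine S1684.result X (ptIdeal η) ?_ fun x _ => ⟨haveI := hreg x; RegLoc.isDomain _,
    haveI := hreg x; RegLoc.ufd_of_isRegularLocalRing _⟩
  rw [hzη]
  have h := ringKrullDim_stalk_of_sdim (k := k) hd η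
  rw [sdim_eq_one (k := k) hη] at h
  generalize ringKrullDim (X.presheaf.stalk η) = a at h ⊢
  cases a with
  | bot => simp at h
  | coe a =>
    have h' : a + 1 = 2 := WithBot.coe_injective (by exact h)
    cases a using ENat.recTopCoe with
    | top => simp at h'
    | coe a =>
      have : a + 1 = 2 := ENat.natCast_inj.1 (by push_cast; exact h')
      obtain rfl : a = 1 := by omega
      rfl

/-- The class of a curve. -/
def ncl {η : X} (hη : topologicalKrullDim (closure ({η} : Set X)) = 1) : PicLoc.PicSet X :=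
  (PicGrp.cls (ClSub.idealMod (ptIdeal η)) (M2.isInvertible_idealMod _ (isEffCartier_pt (k := k) hreg hd hη)))⁻¹

theorem exists_curve_sec {η : X} (hη : topologicalKrullDim (closure ({η} : Set X)) = 1) :
    ∃ (M : X.Modules) (hM : PicF.IsInvertible M) (φ : Coh.structureModule X ⟶ M),
      PicGrp.cls M hM = ncl (k := k) hreg hd hη ∧ ∀ x, x ∈ CohB1.genLocus M φ ↔ ¬ η ⤳ x := by
  have hI := isEffCartier_pt (k := k) hreg hd hη
  have hIi := M2.isInvertible_idealMod _ hI
  obtain ⟨M, hM, ⟨e⟩⟩ := M2.exists_inverse hIi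
  have hinv : ClSub.IsInverseOf M (ClSub.idealMod (ptIdeal η)) := ⟨M2.tensorComm _ _ ≪≫ e⟩
  obtain ⟨φ, hφ⟩ := exists_sec_of_effCartier hI hM hinv
  refine ⟨M, hM, φ, eq_inv_of_mul_eq_one_left ((PicGrp.cls_mul_cls_eq_one_iff hM hIi).2 hinv), fun x => ?_⟩
  rw [hφ, Scheme.IdealSheafData.coe_support_vanishingIdeal]
  exact Iff.not (specializes_iff_mem_closure.symm)

/-- A section not vanishing on a curve has nonnegative degree there, and zero degree only if it has no zero there. -/
theorem sdot_of_section {η : X} (hη : topologicalKrullDim (closure ({η} : Set X)) = 1) {L : X.Modules}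
    (hL : PicF.IsInvertible L) (φ : Coh.structureModule X ⟶ L) (hgen : η ∈ CohB1.genLocus L φ) :
    0 ≤ sdot k (ncl (k := k) hreg hd hη) (PicGrp.cls L hL) ∧
      (sdot k (ncl (k := k) hreg hd hη) (PicGrp.cls L hL) = 0 → ∀ x, η ⤳ x → x ∈ CohB1.genLocus L φ) := by
  haveI : IsNoetherian X := CohFound.isNoetherian_of_isProper (X ↘ (Spec (CommRingCat.of k)))
  have hI := isEffCartier_pt (k := k) hreg hd hη
  have hIi := M2.isInvertible_idealMod _ hI
  obtain ⟨M, hM, ⟨e⟩⟩ := M2.exists_inverse hIi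
  have hcls : PicGrp.cls M hM = ncl (k := k) hreg hd hη :=
    eq_inv_of_mul_eq_one_left ((PicGrp.cls_mul_cls_eq_one_iff hM hIi).2 ⟨M2.tensorComm _ _ ≪≫ e⟩)
  have h1 := dot_eq_cdeg_quot (k := k) hd.le hI (Iso.refl _) hM (M2.tensorComm _ _ ≪≫ e) hL
  rw [SymSq10.ndot_eq' (k := k) hM hL, hcls] at h1
  obtain ⟨hInt, z, hz, hzη⟩ := isIntegral_pt η
  haveI := hInt
  let ι := (ptIdeal η).subschemeι
  letI : (ptIdeal η).subscheme.Over (Spec (CommRingCat.of k)) := ⟨ι ≫ (X ↘ (Spec (CommRingCat.of k)))⟩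
  haveI : IsProper ((ptIdeal η).subscheme ↘ (Spec (CommRingCat.of k))) :=
    inferInstanceAs (IsProper (ι ≫ (X ↘ (Spec (CommRingCat.of k)))))
  have hd1 : topologicalKrullDim (ptIdeal η).subscheme ≤ 1 :=
    ((AmpleFin18.dim_subscheme _ (Scheme.IdealSheafData.coe_support_vanishingIdeal _)).trans hη).le
  let ψ := (Twist.pullbackUnitIso ι).symm.hom ≫ (Scheme.Modules.pullback ι).map φ
  have hψ : CohB1.genLocus _ ψ = ι ⁻¹ᵁ CohB1.genLocus L φ := Amp.genLocus_pullback ι hL φ _
  have hne : Amp.gval ψ ≠ 0 := fun h0 => by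
    have hz' : z ∈ CohB1.genLocus _ ψ := by
      rw [hψ]; show ι z ∈ CohB1.genLocus L φ; rw [hzη]; exact hgen
    rw [Amp.mem_genLocus_iff (PicLoc.isInvertible_pullback ι hL), h0, Amp.gm, map_zero] at hz'
    exact one_ne_zero (hz'.1 ((smul_zero (1 : (ptIdeal η).subscheme.presheaf.stalk z)).trans (smul_zero 0).symm))
  obtain ⟨h2, h3⟩ := CurveAmple18.deg_section (k := k) hd1 (Twist.isInvertible_pullback ι hL) (Amp.gval ψ) hne
  have h4 : (sdot k (ncl (k := k) hreg hd hη) (PicGrp.cls L hL) : ℚ) =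
      (Curv2.deg k (ptIdeal η).subscheme ((Scheme.Modules.pullback ι).obj L) 1 : ℚ) := by
    rw [h1, show ClSub.quotMod (ptIdeal η) =
      (Scheme.Modules.pushforward ι).obj (Coh.structureModule (ptIdeal η).subscheme) from rfl, cdeg_push ι rfl hL]
  have h5 : sdot k (ncl (k := k) hreg hd hη) (PicGrp.cls L hL) =
      Curv2.deg k (ptIdeal η).subscheme ((Scheme.Modules.pullback ι).obj L) 1 := by exact_mod_cast h4
  refine ⟨h5 ▸ h2, fun h0 x hx => ?_⟩
  haveI := h3 (h5.symm.trans h0)
  have h6 : CohB1.genLocus _ ψ = ⊤ := by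
    rw [← Amp.secHom_gval ψ]
    exact CurveAmple18.genLocus_eq_top_of_isIso _
  obtain ⟨y, rfl⟩ : x ∈ Set.range ι := by
    rw [range_ptι]; exact specializes_iff_mem_closure.1 hx
  have : y ∈ CohB1.genLocus _ ψ := by rw [h6]; trivial
  rw [hψ] at this
  exact this

omit hreg in
/-- An affine open contains no complete curve. -/
theorem not_curve_subset_affine {U : X.Opens} (hU : IsAffineOpen U) {η : X}
    (hη : topologicalKrullDim (closure ({η} : Set X)) = 1) : ¬ closure ({η} : Set X) ⊆ (U : Set X) := by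
  intro hsub
  let ι := (ptIdeal η).subschemeι
  let f : (ptIdeal η).subscheme ⟶ (U : Scheme.{u}) := IsOpenImmersion.lift U.ι ι (by
    rw [Scheme.Opens.range_ι, range_ptι]; exact hsub)
  have hf : f ≫ U.ι = ι := IsOpenImmersion.lift_fac _ _ _
  haveI : IsClosedImmersion (f ≫ U.ι) := by rw [hf]; infer_instance
  haveI : IsClosedImmersion f := IsClosedImmersion.of_comp f U.ι
  haveI : IsAffine (U : Scheme.{u}) := hU
  haveI : IsAffine (ptIdeal η).subscheme := isAffine_of_isAffineHom f
  let g := ι ≫ (X ↘ (Spec (CommRingCat.of k)))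
  haveI : IsFinite g := IsFinite.iff_isProper_and_isAffineHom.2 ⟨inferInstance, inferInstance⟩
  have h1 : topologicalKrullDim (ptIdeal η).subscheme ≤ topologicalKrullDim (Spec (CommRingCat.of k)) :=
    H12.topologicalKrullDim_le_of_eq_of_specializes g g.continuous
      fun _ _ h he => H12.eq_of_specializes_of_isIntegralHom g h he
  rw [(AmpleFin18.dim_subscheme _ (Scheme.IdealSheafData.coe_support_vanishingIdeal _)).trans hη] at h1
  have h2 : topologicalKrullDim (Spec (CommRingCat.of k)) = 0 := by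
    exact (PrimeSpectrum.topologicalKrullDim_eq_ringKrullDim k).trans (ringKrullDim_eq_zero_of_field k)
  rw [h2] at h1
  exact absurd h1 (by decide)

end Groth.Agent.Goodman10

end
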